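import Mathlib
import Groth.Agent.Lib.Helper5.SymPow.C

set_option autoImplicit false

namespace Groth.Agent.H5.GrSym

open TensorProduct

universe u v w

section descend

variable {R : Type*} [CommRing R] {ι : Type*} [Fintype ι] [DecidableEq ι]
  {M M' G : Type*} [AddCommGroup M] [Module R M] [AddCommGroup M'] [Module R M']
  [AddCommGroup G] [Module R G]

/-- A multilinear map vanishing as soon as one argument is in the kernel of `π` only depends on
the images of its arguments under `π`. -/
theorem multilinear_congr_of_ker (π : M →ₗ[R] M') (m : MultilinearMap R (fun _ : ι => M) G)
    (hm : ∀ (v : ι → M) (i : ι), π (v i) = 0 → m v = 0)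
    (v v' : ι → M) (h : ∀ i, π (v i) = π (v' i)) : m v = m v' := by
  have key : ∀ s : Finset ι, m (fun j => if j ∈ s then v' j else v j) = m v := by
    intro s
    induction s using Finset.induction_on with
    | empty => simp
    | insert a s ha ih =>
      rw [← ih]
      have h1 : (fun j => if j ∈ insert a s then v' j else v j) =
          Function.update (fun j => if j ∈ s then v' j else v j) a (v' a) := by
        funext j
        by_cases hj : j = a
        · subst hj; simp
        · simp [Finset.mem_insert, hj]
      have h2 : (fun j => if j ∈ s then v' j else v j) =
          Function.update (fun j => if j ∈ s then v' j else v j) a (v a) := by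
        funext j
        by_cases hj : j = a
        · subst hj; simp [ha]
        · simp [Function.update_of_ne hj]
      rw [h1]
      conv_rhs => rw [h2]
      rw [← sub_eq_zero, ← MultilinearMap.map_update_sub]
      apply hm _ a
      rw [Function.update_self, map_sub, h a, sub_self]
  have := key Finset.univ
  simpa using this.symm

/-- Descent of a multilinear map along a surjection in every variable. -/
theorem exists_multilinear_descent (π : M →ₗ[R] M') (hπ : Function.Surjective π)
    (m : MultilinearMap R (fun _ : ι => M) G)
    (hm : ∀ (v : ι → M) (i : ι), π (v i) = 0 → m v = 0) :
    ∃ m' : MultilinearMap R (fun _ : ι => M') G, ∀ v : ι → M, m' (fun i => π (v i)) = m v := by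
  let σ : M' → M := Function.surjInv hπ
  have hσ : ∀ x, π (σ x) = x := Function.surjInv_eq hπ
  refine ⟨{ toFun := fun w => m (fun i => σ (w i))
            map_update_add' := ?_
            map_update_smul' := ?_ }, ?_⟩
  · intro _ w i a b
    have e1 : m (fun j => σ (Function.update w i (a + b) j)) =
        m (Function.update (fun j => σ (w j)) i (σ a + σ b)) := by
      apply multilinear_congr_of_ker π m hm
      intro j
      by_cases hj : j = i
      · subst hj; simp [hσ]
      · simp [Function.update_of_ne hj]
    have e2 : ∀ c, m (fun j => σ (Function.update w i c j)) =
        m (Function.update (fun j => σ (w j)) i (σ c)) := by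
      intro c
      congr 1
      funext j
      by_cases hj : j = i
      · subst hj; simp
      · simp [Function.update_of_ne hj]
    simp only [e1, e2, MultilinearMap.map_update_add]
  · intro _ w i c a
    have e1 : m (fun j => σ (Function.update w i (c • a) j)) =
        m (Function.update (fun j => σ (w j)) i (c • σ a)) := by
      apply multilinear_congr_of_ker π m hm
      intro j
      by_cases hj : j = i
      · subst hj; simp [hσ]
      · simp [Function.update_of_ne hj]
    have e2 : m (fun j => σ (Function.update w i a j)) =
        m (Function.update (fun j => σ (w j)) i (σ a)) := by
      congr 1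
      funext j
      by_cases hj : j = i
      · subst hj; simp
      · simp [Function.update_of_ne hj]
    simp only [e1, e2, MultilinearMap.map_update_smul]
  · intro v
    change m (fun i => σ (π (v i))) = m v
    apply multilinear_congr_of_ker π m hm
    intro i
    rw [hσ]

end descend

end Groth.Agent.H5.GrSym
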