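import Mathlib
import Groth.Prelude.Def_PP16
import Groth.Agent.Lib.Helper5.GrSym.A

set_option autoImplicit false

namespace Groth.Agent.H5.GrSym

open TensorProduct

universe u v w

section canonical

variable {B₀ S : Type u} [CommRing B₀] [CommRing S] [Algebra B₀ S] (𝔍 : Ideal S)
  {ι : Type u} [Fintype ι]
  (N N' : Submodule B₀ S) (hN : ∀ x, x ∈ N ↔ x ∈ 𝔍 ^ Fintype.card ι)
  (hN' : ∀ x, x ∈ N' ↔ x ∈ 𝔍 ^ (Fintype.card ι + 1))

lemma prod_mem (x : ι → 𝔍) : ∏ i, (x i : S) ∈ 𝔍 ^ Fintype.card ι := by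
  simpa using PP16.prod_mem_pow 𝔍 Finset.univ (fun i => (x i : S)) (fun i _ => (x i).2)

include hN in
/-- The product, as a multilinear map on `𝔍` with values in the graded piece. -/
noncomputable def prodMulti : MultilinearMap B₀ (fun _ : ι => ↥𝔍) (↥N ⧸ N'.comap N.subtype) :=
  (N'.comap N.subtype).mkQ.compMultilinearMap
    (MultilinearMap.codRestrict
      ((MultilinearMap.mkPiAlgebra B₀ ι S).compLinearMap
        (fun _ => (𝔍.subtype.restrictScalars B₀)))
      N (fun v => (hN _).mpr (prod_mem 𝔍 v)))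

lemma prodMulti_apply (x : ι → 𝔍) :
    prodMulti 𝔍 N N' hN x =
      Submodule.Quotient.mk ⟨∏ i, (x i : S), (hN _).mpr (prod_mem 𝔍 x)⟩ := by
  rw [prodMulti, LinearMap.compMultilinearMap_apply, Submodule.mkQ_apply]
  congr 1

include hN' in
lemma prodMulti_eq_zero (x : ι → 𝔍) (i : ι) (hi : 𝔍.toCotangent (x i) = 0) :
    prodMulti 𝔍 N N' hN x = 0 := by
  classical
  rw [prodMulti_apply, Submodule.Quotient.mk_eq_zero, Submodule.mem_comap, Submodule.subtype_apply]
  refine (hN' _).mpr ?_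
  change ∏ j, (x j : S) ∈ _
  rw [Ideal.toCotangent_eq_zero] at hi
  rw [← Finset.mul_prod_erase Finset.univ (fun j => (x j : S)) (Finset.mem_univ i)]
  have h1 : ∏ j ∈ Finset.univ.erase i, (x j : S) ∈ 𝔍 ^ (Finset.univ.erase i).card :=
    PP16.prod_mem_pow 𝔍 (Finset.univ.erase i) (fun j => (x j : S)) (fun j _ => (x j).2)
  rw [Finset.card_erase_of_mem (Finset.mem_univ i), Finset.card_univ] at h1
  have hpos : 0 < Fintype.card ι := Fintype.card_pos_iff.mpr ⟨i⟩
  have h2 : 𝔍 ^ (Fintype.card ι + 1) = 𝔍 ^ 2 * 𝔍 ^ (Fintype.card ι - 1) := by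
    rw [← pow_add]
    congr 1
    omega
  rw [h2]
  exact Ideal.mul_mem_mul hi h1

include hN' in
/-- The canonical map from the symmetric power of the cotangent space to the graded piece. -/
theorem exists_canonical :
    ∃ φ : Sym[B₀] ι 𝔍.Cotangent →ₗ[B₀] (↥N ⧸ N'.comap N.subtype),
      ∀ x : ι → 𝔍, φ (SymmetricPower.tprod B₀ fun i => 𝔍.toCotangent (x i)) =
        Submodule.Quotient.mk ⟨∏ i, (x i : S), (hN _).mpr (prod_mem 𝔍 x)⟩ := by
  classical
  let π : ↥𝔍 →ₗ[B₀] 𝔍.Cotangent := 𝔍.toCotangent.restrictScalars B₀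
  have hπ : Function.Surjective π := 𝔍.toCotangent_surjective
  obtain ⟨m', hm'⟩ := exists_multilinear_descent π hπ (prodMulti 𝔍 N N' hN)
    (fun v i hi => prodMulti_eq_zero 𝔍 N N' hN hN' v i hi)
  have hsymm : ∀ (e : Equiv.Perm ι) (v : ι → 𝔍.Cotangent), m' (fun i => v (e i)) = m' v := by
    intro e v
    have hv : v = fun i => π (Function.surjInv hπ (v i)) := by
      funext i
      rw [Function.surjInv_eq hπ]
    set x := fun i => Function.surjInv hπ (v i) with hx
    rw [hv]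
    rw [hm' x, hm' (fun i => x (e i)), prodMulti_apply, prodMulti_apply]
    congr 1
    apply Subtype.ext
    exact Equiv.prod_comp e (fun i => (x i : S))
  refine ⟨SymPow.lift m' hsymm, fun x => ?_⟩
  rw [SymPow.lift_tprod]
  rw [← prodMulti_apply 𝔍 N N' hN x]
  exact hm' x

end canonical

end Groth.Agent.H5.GrSym
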