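import Mathlib
import Groth.Prelude.Def_PP16
import Groth.Agent.Lib.Helper5.GrSym.A2

set_option autoImplicit false

namespace Groth.Agent.H5.GrSym

open TensorProduct
open scoped Pointwise

universe u v w

section surj

variable {B₀ S : Type u} [CommRing B₀] [CommRing S] [Algebra B₀ S] (𝔍 : Ideal S)
  {n : ℕ}
  (N N' : Submodule B₀ S) (hN : ∀ x, x ∈ N ↔ x ∈ 𝔍 ^ n)
  (hN' : ∀ x, x ∈ N' ↔ x ∈ 𝔍 ^ (n + 1))

include hN in
/-- The class of an element of `𝔍 ^ n` in the graded piece. -/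
def cls (y : S) (hy : y ∈ 𝔍 ^ n) : ↥N ⧸ N'.comap N.subtype :=
  Submodule.Quotient.mk ⟨y, (hN y).mpr hy⟩

lemma cls_add (y z : S) (hy : y ∈ 𝔍 ^ n) (hz : z ∈ 𝔍 ^ n) :
    cls 𝔍 N N' hN (y + z) (Ideal.add_mem _ hy hz) = cls 𝔍 N N' hN y hy + cls 𝔍 N N' hN z hz :=
  rfl

lemma cls_zero : cls 𝔍 N N' hN 0 (Ideal.zero_mem _) = 0 := rfl

lemma cls_smul (b : B₀) (y : S) (hy : y ∈ 𝔍 ^ n) :
    cls 𝔍 N N' hN (b • y) (by rw [Algebra.smul_def]; exact Ideal.mul_mem_left _ _ hy) =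
      b • cls 𝔍 N N' hN y hy :=
  rfl

include hN' in
lemma cls_eq_of_sub_mem (y z : S) (hy : y ∈ 𝔍 ^ n) (hz : z ∈ 𝔍 ^ n) (h : y - z ∈ 𝔍 ^ (n + 1)) :
    cls 𝔍 N N' hN y hy = cls 𝔍 N N' hN z hz := by
  rw [cls, cls, Submodule.Quotient.eq, Submodule.mem_comap]
  exact (hN' _).mpr h

include hN' in
lemma cls_eq_zero (y : S) (hy : y ∈ 𝔍 ^ n) (h : y ∈ 𝔍 ^ (n + 1)) :
    cls 𝔍 N N' hN y hy = 0 := by
  rw [cls, Submodule.Quotient.mk_eq_zero, Submodule.mem_comap]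
  exact (hN' _).mpr h

include hN' in
lemma cls_eq_zero_iff (y : S) (hy : y ∈ 𝔍 ^ n) :
    cls 𝔍 N N' hN y hy = 0 ↔ y ∈ 𝔍 ^ (n + 1) := by
  rw [cls, Submodule.Quotient.mk_eq_zero, Submodule.mem_comap]
  exact hN' _

lemma cls_surjective (g : ↥N ⧸ N'.comap N.subtype) :
    ∃ (y : S) (hy : y ∈ 𝔍 ^ n), g = cls 𝔍 N N' hN y hy := by
  obtain ⟨⟨y, hy⟩, rfl⟩ := Submodule.Quotient.mk_surjective _ g
  exact ⟨y, (hN y).mp hy, rfl⟩

end surj

section surj2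

variable {B₀ S : Type u} [CommRing B₀] [CommRing S] [Algebra B₀ S] (𝔍 : Ideal S)
  {ι : Type u} [Fintype ι]
  (N N' : Submodule B₀ S) (hN : ∀ x, x ∈ N ↔ x ∈ 𝔍 ^ Fintype.card ι)
  (hN' : ∀ x, x ∈ N' ↔ x ∈ 𝔍 ^ (Fintype.card ι + 1))

include hN' in
theorem surjective_of_pinned (hsurj : ∀ s : S, ∃ b : B₀, s - algebraMap B₀ S b ∈ 𝔍)
    (φ : Sym[B₀] ι 𝔍.Cotangent →ₗ[B₀] (↥N ⧸ N'.comap N.subtype))
    (hφ : ∀ x : ι → 𝔍, φ (SymmetricPower.tprod B₀ fun i => 𝔍.toCotangent (x i)) =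
        cls 𝔍 N N' hN (∏ i, (x i : S)) (prod_mem 𝔍 x)) :
    Function.Surjective φ := by
  intro g
  obtain ⟨y, hy, rfl⟩ := cls_surjective 𝔍 N N' hN g
  have hspan : 𝔍 ^ Fintype.card ι = Submodule.span S ((𝔍 : Set S) ^ Fintype.card ι) :=
    Submodule.pow_eq_span_pow_set 𝔍 _
  have key : ∀ (y : S) (hy' : y ∈ Submodule.span S ((𝔍 : Set S) ^ Fintype.card ι)),
      cls 𝔍 N N' hN y (hspan ▸ hy') ∈ LinearMap.range φ := by
    intro y hy'
    induction hy' using Submodule.span_induction with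
    | mem y hy'' =>
      obtain ⟨f, rfl⟩ := Set.mem_pow.mp hy''
      let e : ι ≃ Fin (Fintype.card ι) := Fintype.equivFin ι
      refine ⟨SymmetricPower.tprod B₀ fun i => 𝔍.toCotangent (f (e i)), ?_⟩
      rw [hφ (fun i => f (e i))]
      congr 1
      rw [List.prod_ofFn]
      exact Equiv.prod_comp e (fun j => ((f j : ↥𝔍) : S))
    | zero => exact (LinearMap.range φ).zero_mem
    | add a b ha hb iha ihb =>
      have := (LinearMap.range φ).add_mem iha ihb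
      rwa [← cls_add] at this
    | smul s a ha iha =>
      obtain ⟨b, hb⟩ := hsurj s
      have ha' : a ∈ 𝔍 ^ Fintype.card ι := hspan ▸ ha
      have h1 : cls 𝔍 N N' hN (s • a) (hspan ▸ Submodule.smul_mem _ s ha) =
          cls 𝔍 N N' hN (b • a) (by rw [Algebra.smul_def]; exact Ideal.mul_mem_left _ _ ha') := by
        apply cls_eq_of_sub_mem 𝔍 N N' hN hN'
        rw [smul_eq_mul, Algebra.smul_def, ← sub_mul, pow_succ']
        exact Ideal.mul_mem_mul hb ha'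
      rw [h1, cls_smul 𝔍 N N' hN b a ha']
      exact (LinearMap.range φ).smul_mem b iha
  exact key y (hspan ▸ hy)

end surj2

end Groth.Agent.H5.GrSym
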