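import Mathlib
import Groth.Prelude.Def_CAlgX

set_option autoImplicit false

namespace Groth.Agent.H5.GrSym

universe u

section lifting

variable {R S : Type u} [CommRing R] [CommRing S] [Algebra R S] (𝔫 : Ideal S)

/-- An algebra map killing `𝔫 ^ k` and landing in `I` on it kills `𝔫 ^ (2k)` when `I² = 0`. -/
lemma kills_of_sq_zero {B : Type u} [CommRing B] [Algebra R B] (I : Ideal B) (hI : I ^ 2 = ⊥)
    (f : S →ₐ[R] B) (k : ℕ) (hk : ∀ x ∈ 𝔫 ^ k, Ideal.Quotient.mk I (f x) = 0) :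
    ∀ x ∈ 𝔫 ^ (2 * k), f x = 0 := by
  have h1 : (𝔫 ^ k).map f.toRingHom ≤ I := by
    rw [Ideal.map_le_iff_le_comap]
    intro x hx
    rw [Ideal.mem_comap]
    exact Ideal.Quotient.eq_zero_iff_mem.mp (hk x hx)
  have h2 : (𝔫 ^ (2 * k)).map f.toRingHom ≤ ⊥ := by
    rw [mul_comm, pow_mul, Ideal.map_pow, ← hI]
    exact Ideal.pow_right_mono h1 2
  intro x hx
  have := h2 (Ideal.mem_map_of_mem _ hx)
  simpa using this

theorem adic_exists_lift (h : CAlgX.IsAdicFormallySmooth R S 𝔫)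
    {B : Type u} [CommRing B] [Algebra R B] (I : Ideal B) (hI : IsNilpotent I)
    (g : S →ₐ[R] B ⧸ I) (hg : ∃ k, ∀ x ∈ 𝔫 ^ k, g x = 0) :
    ∃ f : S →ₐ[R] B, (Ideal.Quotient.mkₐ R I).comp f = g ∧ ∃ k, ∀ x ∈ 𝔫 ^ k, f x = 0 := by
  revert g
  revert ‹Algebra R B›
  apply Ideal.IsNilpotent.induction_on (S := B) I hI
  · intro B _ I hI _ g ⟨k, hk⟩
    obtain ⟨f, hf⟩ := h B I hI g ⟨k, hk⟩
    refine ⟨f, hf, 2 * k, kills_of_sq_zero 𝔫 I hI f k (fun x hx => ?_)⟩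
    have : (Ideal.Quotient.mkₐ R I).comp f x = g x := by rw [hf]
    rw [← hk x hx, ← this]
    rfl
  · intro B _ I J hIJ h₁ h₂ _ g ⟨k, hk⟩
    let e : ((B ⧸ I) ⧸ J.map (Ideal.Quotient.mk I)) ≃ₐ[R] B ⧸ J :=
      { (DoubleQuot.quotQuotEquivQuotSup I J).trans
          (Ideal.quotEquivOfEq (sup_eq_right.mpr hIJ)) with
        commutes' := fun x => rfl }
    obtain ⟨g', e', k', hk'⟩ := h₂ (e.symm.toAlgHom.comp g) ⟨k, fun x hx => by
      rw [AlgHom.comp_apply, hk x hx, map_zero]⟩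
    obtain ⟨f, rfl, k'', hk''⟩ := h₁ g' ⟨k', hk'⟩
    replace e' := congr_arg e.toAlgHom.comp e'
    conv_rhs at e' =>
      rw [← AlgHom.comp_assoc, AlgEquiv.comp_symm, AlgHom.id_comp]
    exact ⟨f, e', k'', hk''⟩

/-- Lifting through a surjection with nilpotent kernel. -/
theorem adic_exists_lift_of_surjective (h : CAlgX.IsAdicFormallySmooth R S 𝔫)
    {B B' : Type u} [CommRing B] [Algebra R B] [CommRing B'] [Algebra R B']
    (π : B →ₐ[R] B') (hπ : Function.Surjective π) (hker : IsNilpotent (RingHom.ker π))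
    (g : S →ₐ[R] B') (hg : ∃ k, ∀ x ∈ 𝔫 ^ k, g x = 0) :
    ∃ f : S →ₐ[R] B, π.comp f = g := by
  let e := Ideal.quotientKerAlgEquivOfSurjective hπ
  obtain ⟨f, hf, -⟩ := adic_exists_lift 𝔫 h (RingHom.ker π) hker
    (e.symm.toAlgHom.comp g) (by
      obtain ⟨k, hk⟩ := hg
      exact ⟨k, fun x hx => by
        change e.symm (g x) = 0
        rw [hk x hx, map_zero]⟩)
  refine ⟨f, ?_⟩
  ext x
  have h1 : (Ideal.Quotient.mkₐ R (RingHom.ker π)) (f x) = e.symm (g x) := by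
    exact AlgHom.congr_fun hf x
  have h2 : e ((Ideal.Quotient.mkₐ R (RingHom.ker π)) (f x)) = π (f x) := by
    simp [e]
  rw [AlgHom.comp_apply, ← h2, h1, AlgEquiv.apply_symm_apply]

end lifting

end Groth.Agent.H5.GrSym
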