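import Mathlib
import Groth.Agent.Lib.Helper5.SymPow.C

set_option autoImplicit false

namespace Groth.Agent.H5.GrSym

open MvPolynomial

section hc

variable {κ : Type*} {C : Type*} [CommRing C]

lemma prod_mem_pow' {R : Type*} [CommRing R] (I : Ideal R) {ι : Type*} (s : Finset ι) (x : ι → R)
    (hx : ∀ i ∈ s, x i ∈ I) : ∏ i ∈ s, x i ∈ I ^ s.card := by
  classical
  induction s using Finset.induction_on with
  | empty => simp
  | insert a s ha ih =>
    rw [Finset.prod_insert ha, Finset.card_insert_of_notMem ha, pow_succ']
    exact Ideal.mul_mem_mul (hx a (by simp)) (ih fun i hi => hx i (by simp [hi]))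

lemma hc_eq_zero_of_mem {n m : ℕ} (h : n < m) {p : MvPolynomial κ C}
    (hp : p ∈ idealOfVars κ C ^ m) : homogeneousComponent n p = 0 := by
  ext d
  rw [coeff_homogeneousComponent, coeff_zero]
  split_ifs with hd
  · exact (mem_pow_idealOfVars_iff' m p).mp hp d (by omega)
  · rfl

lemma sub_hc_mem {n : ℕ} {p : MvPolynomial κ C} (hp : p ∈ idealOfVars κ C ^ n) :
    p - homogeneousComponent n p ∈ idealOfVars κ C ^ (n + 1) := by
  rw [mem_pow_idealOfVars_iff']
  intro d hd
  rw [coeff_sub, coeff_homogeneousComponent]
  split_ifs with h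
  · simp
  · have : d.degree < n := by omega
    rw [(mem_pow_idealOfVars_iff' n p).mp hp d this]
    simp

lemma isHomogeneous_mem_pow {n : ℕ} {p : MvPolynomial κ C} (hp : p.IsHomogeneous n) :
    p ∈ idealOfVars κ C ^ n := by
  rw [mem_pow_idealOfVars_iff']
  intro d hd
  exact hp.coeff_eq_zero (by omega)

lemma hc_mul {a b : ℕ} {p q : MvPolynomial κ C} (hp : p ∈ idealOfVars κ C ^ a)
    (hq : q ∈ idealOfVars κ C ^ b) :
    homogeneousComponent (a + b) (p * q) =
      homogeneousComponent a p * homogeneousComponent b q := by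
  have hp0 := homogeneousComponent_isHomogeneous a p
  have hq0 := homogeneousComponent_isHomogeneous b q
  have hp' := sub_hc_mem hp
  have hq' := sub_hc_mem hq
  have e : p * q = homogeneousComponent a p * homogeneousComponent b q +
      ((p - homogeneousComponent a p) * q +
        homogeneousComponent a p * (q - homogeneousComponent b q)) := by ring
  have hrest : (p - homogeneousComponent a p) * q +
        homogeneousComponent a p * (q - homogeneousComponent b q) ∈
      idealOfVars κ C ^ (a + b + 1) := by
    refine Ideal.add_mem _ ?_ ?_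
    · have : idealOfVars κ C ^ (a + b + 1) = idealOfVars κ C ^ (a + 1) * idealOfVars κ C ^ b := by
        rw [← pow_add]; congr 1; omega
      rw [this]
      exact Ideal.mul_mem_mul hp' hq
    · have : idealOfVars κ C ^ (a + b + 1) = idealOfVars κ C ^ a * idealOfVars κ C ^ (b + 1) := by
        rw [← pow_add]; congr 1
      rw [this]
      exact Ideal.mul_mem_mul (isHomogeneous_mem_pow hp0) hq'
  conv_lhs => rw [e]
  rw [map_add, homogeneousComponent_eq_self (hp0.mul hq0),
    hc_eq_zero_of_mem (Nat.lt_succ_self _) hrest, add_zero]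

lemma hc_prod {ι : Type*} (s : Finset ι) (p : ι → MvPolynomial κ C)
    (hp : ∀ i ∈ s, p i ∈ idealOfVars κ C) :
    homogeneousComponent s.card (∏ i ∈ s, p i) = ∏ i ∈ s, homogeneousComponent 1 (p i) := by
  classical
  induction s using Finset.induction_on with
  | empty =>
    simp only [Finset.card_empty, Finset.prod_empty]
    exact homogeneousComponent_eq_self (isHomogeneous_one κ C)
  | insert a s ha ih =>
    rw [Finset.prod_insert ha, Finset.prod_insert ha, Finset.card_insert_of_notMem ha, add_comm,
      hc_mul (a := 1) (b := s.card) (by simpa using hp a (by simp))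
        (prod_mem_pow' _ s p fun i hi => hp i (by simp [hi])),
      ih fun i hi => hp i (by simp [hi])]

lemma hc_C_mul_add {n : ℕ} (c : C) {r p : MvPolynomial κ C} (hr : r ∈ idealOfVars κ C)
    (hp : p ∈ idealOfVars κ C ^ n) :
    homogeneousComponent n ((MvPolynomial.C c + r) * p) =
      MvPolynomial.C c * homogeneousComponent n p := by
  rw [add_mul, map_add, homogeneousComponent_C_mul]
  have : r * p ∈ idealOfVars κ C ^ (n + 1) := by
    rw [pow_succ']
    exact Ideal.mul_mem_mul hr hp
  rw [hc_eq_zero_of_mem (Nat.lt_succ_self _) this, add_zero]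

end hc

section linForm

variable {κ : Type*} {C : Type*} [CommRing C]

/-- The linear form attached to a finitely supported family of coefficients. -/
noncomputable abbrev ell : (κ →₀ C) →ₗ[C] MvPolynomial κ C :=
  SymPow.linForm (Finsupp.basisSingleOne (R := C) (ι := κ))

lemma ell_isHomogeneous (f : κ →₀ C) : (ell f : MvPolynomial κ C).IsHomogeneous 1 := by
  have : LinearMap.range (ell (κ := κ) (C := C)) ≤ homogeneousSubmodule κ C 1 := by
    rw [ell, SymPow.linForm, Module.Basis.constr_range, Submodule.span_le]
    rintro _ ⟨k, rfl⟩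
    exact isHomogeneous_X C k
  exact this ⟨f, rfl⟩

lemma ell_mem (f : κ →₀ C) : (ell f : MvPolynomial κ C) ∈ idealOfVars κ C := by
  simpa using isHomogeneous_mem_pow (ell_isHomogeneous f)

lemma hc_one_ell_add (f : κ →₀ C) {r : MvPolynomial κ C} (hr : r ∈ idealOfVars κ C ^ 2) :
    homogeneousComponent 1 (ell f + r) = ell f := by
  rw [map_add, homogeneousComponent_eq_self (ell_isHomogeneous f),
    hc_eq_zero_of_mem (by norm_num) hr, add_zero]

end linForm

end Groth.Agent.H5.GrSym
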