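import Mathlib
import Groth.Prelude.Def_CAlgX
import Groth.Agent.Lib.Helper5.GrSym.B
import Groth.Agent.Lib.Helper5.GrSym.C

set_option autoImplicit false

namespace Groth.Agent.H5.GrSym

open MvPolynomial

universe u

section trunc

variable (κ : Type u) (C : Type u) [CommRing C]

/-- The truncated polynomial ring `C[X_κ]/(X)^(N+1)`. -/
abbrev T (N : ℕ) : Type u := MvPolynomial κ C ⧸ (idealOfVars κ C) ^ (N + 1)

/-- The homogeneous component of degree `n ≤ N` on the truncated polynomial ring. -/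
noncomputable def Hq (N n : ℕ) (hn : n ≤ N) : T κ C N →ₗ[C] MvPolynomial κ C :=
  (Submodule.liftQ (((idealOfVars κ C) ^ (N + 1)).restrictScalars C) (homogeneousComponent n)
    (fun p hp => hc_eq_zero_of_mem (by omega) hp)) ∘ₗ
    (Submodule.Quotient.restrictScalarsEquiv C _).symm.toLinearMap

lemma Hq_mk (N n : ℕ) (hn : n ≤ N) (p : MvPolynomial κ C) :
    Hq κ C N n hn (Ideal.Quotient.mk _ p) = homogeneousComponent n p := rfl

lemma isNilpotent_map (N : ℕ) :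
    IsNilpotent ((idealOfVars κ C ^ (1 + 1)).map
      (Ideal.Quotient.mk (idealOfVars κ C ^ (N + 1)))) := by
  refine ⟨N + 1, ?_⟩
  have h3 : ((idealOfVars κ C ^ (1 + 1)).map
      (Ideal.Quotient.mk (idealOfVars κ C ^ (N + 1)))) ^ (N + 1) =
      (idealOfVars κ C ^ ((1 + 1) * (N + 1))).map
        (Ideal.Quotient.mk (idealOfVars κ C ^ (N + 1))) := by
    simp only [pow_mul, Ideal.map_pow]
  rw [h3, Ideal.zero_eq_bot, eq_bot_iff]
  calc (idealOfVars κ C ^ ((1 + 1) * (N + 1))).map (Ideal.Quotient.mk (idealOfVars κ C ^ (N + 1)))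
        ≤ (idealOfVars κ C ^ (N + 1)).map (Ideal.Quotient.mk (idealOfVars κ C ^ (N + 1))) :=
          Ideal.map_mono (Ideal.pow_le_pow_right (by nlinarith))
      _ = ⊥ := Ideal.map_quotient_self _

lemma map_pow_mk (N m : ℕ) :
    ((idealOfVars κ C).map (Ideal.Quotient.mk (idealOfVars κ C ^ (N + 1)))) ^ m =
      (idealOfVars κ C ^ m).map (Ideal.Quotient.mk (idealOfVars κ C ^ (N + 1))) :=
  (Ideal.map_pow _ _ _).symm

end trunc

section core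

variable {R S : Type u} [CommRing R] [CommRing S] [Algebra R S] (𝔍 : Ideal S)
  {κ : Type u}

theorem core (hAFS : CAlgX.IsAdicFormallySmooth R S 𝔍)
    (i : 𝔍.Cotangent →ₗ[S ⧸ 𝔍] (κ →₀ (S ⧸ 𝔍)))
    (ψ₁ : S →ₐ[R] T κ (S ⧸ 𝔍) 1)
    (h1 : ∀ s : S, ∃ r ∈ idealOfVars κ (S ⧸ 𝔍),
      ψ₁ s = Ideal.Quotient.mk _ (C (Ideal.Quotient.mk 𝔍 s) + r))
    (h2 : ∀ x : 𝔍, ψ₁ x = Ideal.Quotient.mk _ (ell (i (𝔍.toCotangent x))))
    (n : ℕ) :
    ∃ Λ : S →+ MvPolynomial κ (S ⧸ 𝔍),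
      (∀ x ∈ 𝔍 ^ (n + 1), Λ x = 0) ∧
      (∀ (s x : S), x ∈ 𝔍 ^ n → Λ (s * x) = C (Ideal.Quotient.mk 𝔍 s) * Λ x) ∧
      (∀ (ι : Type u) [Fintype ι] (x : ι → 𝔍), Fintype.card ι = n →
        Λ (∏ l, (x l : S)) = ∏ l, ell (i (𝔍.toCotangent (x l)))) := by
  classical
  set N := max n 1 with hN
  have hnN : n ≤ N := le_max_left _ _
  have h1N : 1 ≤ N := le_max_right _ _
  have hle : (idealOfVars κ (S ⧸ 𝔍)) ^ (N + 1) ≤ (idealOfVars κ (S ⧸ 𝔍)) ^ (1 + 1) := Ideal.pow_le_pow_right (by omega)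
  let π : T κ (S ⧸ 𝔍) N →ₐ[R] T κ (S ⧸ 𝔍) 1 := Ideal.Quotient.factorₐ R hle
  have hπ : Function.Surjective π := Ideal.Quotient.factor_surjective hle
  have hπmk : ∀ p : MvPolynomial κ (S ⧸ 𝔍), π (Ideal.Quotient.mk _ p) = Ideal.Quotient.mk _ p :=
    fun p => rfl
  have hker : IsNilpotent (RingHom.ker π) := by
    have : RingHom.ker π = ((idealOfVars κ (S ⧸ 𝔍)) ^ (1 + 1)).map (Ideal.Quotient.mk ((idealOfVars κ (S ⧸ 𝔍)) ^ (N + 1))) :=
      Ideal.Quotient.factor_ker hle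
    rw [this]
    exact isNilpotent_map κ (S ⧸ 𝔍) N
  have hψkill : ∃ k, ∀ x ∈ 𝔍 ^ k, ψ₁ x = 0 := by
    refine ⟨2, fun x hx => ?_⟩
    rw [pow_two] at hx
    refine Submodule.mul_induction_on hx (fun a ha b hb => ?_) (fun a b ha hb => ?_)
    · rw [map_mul, h2 ⟨a, ha⟩, h2 ⟨b, hb⟩, ← map_mul, Ideal.Quotient.eq_zero_iff_mem, pow_succ,
        pow_one]
      exact Ideal.mul_mem_mul (ell_mem _) (ell_mem _)
    · rw [map_add, ha, hb, add_zero]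
  obtain ⟨χ, hχ⟩ := adic_exists_lift_of_surjective 𝔍 hAFS π hπ hker ψ₁ hψkill
  have hχ' : ∀ s, π (χ s) = ψ₁ s := fun s => AlgHom.congr_fun hχ s
  -- representatives
  have r1 : ∀ s : S, ∃ r ∈ (idealOfVars κ (S ⧸ 𝔍)), χ s = Ideal.Quotient.mk _ (C (Ideal.Quotient.mk 𝔍 s) + r) := by
    intro s
    obtain ⟨p, hp⟩ := Ideal.Quotient.mk_surjective (χ s)
    obtain ⟨r₁, hr₁, hs⟩ := h1 s
    have := hχ' s
    rw [← hp, hπmk, hs, Ideal.Quotient.eq] at this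
    refine ⟨p - C (Ideal.Quotient.mk 𝔍 s), ?_, ?_⟩
    · have e : p - C (Ideal.Quotient.mk 𝔍 s) = r₁ + (p - (C (Ideal.Quotient.mk 𝔍 s) + r₁)) := by
        ring
      rw [e]
      exact Ideal.add_mem _ hr₁ (Ideal.pow_le_self (by norm_num) this)
    · rw [← hp]
      congr 1
      ring
  have r2 : ∀ x : 𝔍, ∃ r ∈ (idealOfVars κ (S ⧸ 𝔍)) ^ 2, χ x = Ideal.Quotient.mk _ (ell (i (𝔍.toCotangent x)) + r) := by
    intro x
    obtain ⟨p, hp⟩ := Ideal.Quotient.mk_surjective (χ x)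
    have := hχ' x
    rw [← hp, hπmk, h2 x, Ideal.Quotient.eq] at this
    refine ⟨p - ell (i (𝔍.toCotangent x)), this, ?_⟩
    rw [← hp]
    congr 1
    ring
  have r3 : ∀ (m : ℕ) (x : S), x ∈ 𝔍 ^ m → ∃ p ∈ (idealOfVars κ (S ⧸ 𝔍)) ^ m, χ x = Ideal.Quotient.mk _ p := by
    intro m x hx
    have hJ : 𝔍.map χ.toRingHom ≤ (idealOfVars κ (S ⧸ 𝔍)).map (Ideal.Quotient.mk ((idealOfVars κ (S ⧸ 𝔍)) ^ (N + 1))) := by
      rw [Ideal.map_le_iff_le_comap]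
      intro y hy
      rw [Ideal.mem_comap]
      obtain ⟨r, hr, hy'⟩ := r2 ⟨y, hy⟩
      change χ y ∈ _
      rw [hy']
      exact Ideal.mem_map_of_mem _ (Ideal.add_mem _ (ell_mem _) (Ideal.pow_le_self (by norm_num) hr))
    have hJm : (𝔍 ^ m).map χ.toRingHom ≤ ((idealOfVars κ (S ⧸ 𝔍)) ^ m).map (Ideal.Quotient.mk ((idealOfVars κ (S ⧸ 𝔍)) ^ (N + 1))) := by
      rw [Ideal.map_pow]
      exact (Ideal.pow_right_mono hJ m).trans (le_of_eq (map_pow_mk κ (S ⧸ 𝔍) N m))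
    have hx' := hJm (Ideal.mem_map_of_mem _ hx)
    obtain ⟨p, hp, hpx⟩ := (Ideal.mem_map_iff_of_surjective _ Ideal.Quotient.mk_surjective).mp hx'
    exact ⟨p, hp, hpx.symm⟩
  let Λ : S →+ MvPolynomial κ (S ⧸ 𝔍) :=
    (Hq κ (S ⧸ 𝔍) N n hnN).toAddMonoidHom.comp (χ : S →+* T κ (S ⧸ 𝔍) N).toAddMonoidHom
  have hΛ : ∀ x, Λ x = Hq κ (S ⧸ 𝔍) N n hnN (χ x) := fun x => rfl
  refine ⟨Λ, ?_, ?_, ?_⟩
  · intro x hx
    obtain ⟨p, hp, hpx⟩ := r3 (n + 1) x hx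
    rw [hΛ, hpx, Hq_mk]
    exact hc_eq_zero_of_mem (Nat.lt_succ_self n) hp
  · intro s x hx
    obtain ⟨p, hp, hpx⟩ := r3 n x hx
    obtain ⟨r, hr, hs⟩ := r1 s
    rw [hΛ, hΛ, map_mul, hpx, hs, ← map_mul, Hq_mk, Hq_mk]
    exact hc_C_mul_add _ hr hp
  · intro ι _ x hcard
    choose r hr hx using r2
    rw [hΛ, map_prod]
    simp only [hx]
    rw [← map_prod, Hq_mk, ← hcard, ← Finset.card_univ, hc_prod]
    · refine Finset.prod_congr rfl fun l _ => ?_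
      exact hc_one_ell_add _ (hr (x l))
    · intro l _
      exact Ideal.add_mem _ (ell_mem _) (Ideal.pow_le_self (by norm_num) (hr (x l)))

end core

end Groth.Agent.H5.GrSym
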