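import Mathlib
import Groth.Agent.Lib.Helper5.GrSym.A3
import Groth.Agent.Lib.Helper5.GrSym.D

set_option autoImplicit false

namespace Groth.Agent.H5.GrSym

open MvPolynomial TensorProduct

universe u

section tower

variable {B₀ S : Type u} [CommRing B₀] [CommRing S] [Algebra B₀ S] (𝔍 : Ideal S)

instance isScalarTower_cotangent : IsScalarTower B₀ (S ⧸ 𝔍) 𝔍.Cotangent :=
  IsScalarTower.of_algebraMap_smul fun b m => by
    rw [IsScalarTower.algebraMap_apply B₀ S (S ⧸ 𝔍), algebraMap_smul, algebraMap_smul]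

end tower

section inj

variable {B₀ S : Type u} [CommRing B₀] [CommRing S] [Algebra B₀ S] (𝔍 : Ideal S)
  {ι : Type u} [Fintype ι] [Nonempty ι]
  (N N' : Submodule B₀ S) (hN : ∀ x, x ∈ N ↔ x ∈ 𝔍 ^ Fintype.card ι)
  (hN' : ∀ x, x ∈ N' ↔ x ∈ 𝔍 ^ (Fintype.card ι + 1))
  {κ : Type u}

include hN' in
theorem injective_of_core (hsurjC : Function.Surjective (algebraMap B₀ (S ⧸ 𝔍)))
    (i : 𝔍.Cotangent →ₗ[S ⧸ 𝔍] (κ →₀ (S ⧸ 𝔍))) (p : (κ →₀ (S ⧸ 𝔍)) →ₗ[S ⧸ 𝔍] 𝔍.Cotangent)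
    (hpi : p ∘ₗ i = LinearMap.id)
    (Λ : S →+ MvPolynomial κ (S ⧸ 𝔍))
    (hΛ1 : ∀ x ∈ 𝔍 ^ (Fintype.card ι + 1), Λ x = 0)
    (hΛ2 : ∀ (s x : S), x ∈ 𝔍 ^ Fintype.card ι → Λ (s * x) = C (Ideal.Quotient.mk 𝔍 s) * Λ x)
    (hΛ3 : ∀ (x : ι → 𝔍), Λ (∏ l, (x l : S)) = ∏ l, ell (i (𝔍.toCotangent (x l))))
    (φ : Sym[B₀] ι 𝔍.Cotangent →ₗ[B₀] (↥N ⧸ N'.comap N.subtype))
    (hφ : ∀ x : ι → 𝔍, φ (SymmetricPower.tprod B₀ fun i => 𝔍.toCotangent (x i)) =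
        cls 𝔍 N N' hN (∏ i, (x i : S)) (prod_mem 𝔍 x)) :
    Function.Injective φ := by
  let f : ↥N →ₗ[B₀] MvPolynomial κ (S ⧸ 𝔍) :=
    { toFun := fun y => Λ y.1
      map_add' := fun y z => by simp
      map_smul' := fun b y => by
        have hy : (y : S) ∈ 𝔍 ^ Fintype.card ι := (hN _).mp y.2
        have := hΛ2 (algebraMap B₀ S b) y hy
        rw [RingHom.id_apply, Algebra.smul_def, MvPolynomial.algebraMap_apply]
        rw [Submodule.coe_smul, Algebra.smul_def, this]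
        rfl }
  let Λbar : (↥N ⧸ N'.comap N.subtype) →ₗ[B₀] MvPolynomial κ (S ⧸ 𝔍) :=
    (N'.comap N.subtype).liftQ f (fun y hy => by
      rw [LinearMap.mem_ker]
      exact hΛ1 _ ((hN' _).mp hy))
  have hΛbar : ∀ (y : S) (hy : y ∈ 𝔍 ^ Fintype.card ι), Λbar (cls 𝔍 N N' hN y hy) = Λ y :=
    fun y hy => rfl
  let i₀ : 𝔍.Cotangent →ₗ[B₀] (κ →₀ (S ⧸ 𝔍)) := i.restrictScalars B₀
  let p₀ : (κ →₀ (S ⧸ 𝔍)) →ₗ[B₀] 𝔍.Cotangent := p.restrictScalars B₀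
  have hpi₀ : p₀ ∘ₗ i₀ = LinearMap.id := by
    ext m
    exact LinearMap.congr_fun hpi m
  let Θ : Sym[B₀] ι (κ →₀ (S ⧸ 𝔍)) →ₗ[B₀] MvPolynomial κ (S ⧸ 𝔍) :=
    SymPow.theta (B₀ := B₀) (Finsupp.basisSingleOne (R := S ⧸ 𝔍) (ι := κ))
  have hcomp : Λbar ∘ₗ φ = Θ ∘ₗ SymPow.map i₀ := by
    apply SymPow.hom_ext
    intro v
    have hv : v = fun l => 𝔍.toCotangent (Function.surjInv 𝔍.toCotangent_surjective (v l)) := by
      funext l
      exact (Function.surjInv_eq 𝔍.toCotangent_surjective (v l)).symm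
    set x := fun l => Function.surjInv 𝔍.toCotangent_surjective (v l) with hx
    rw [hv, LinearMap.comp_apply, LinearMap.comp_apply, hφ x, hΛbar, hΛ3, SymPow.map_tprod,
      SymPow.theta_tprod]
    rfl
  have hinj : Function.Injective (Θ ∘ₗ SymPow.map (ι := ι) i₀) := by
    rw [LinearMap.coe_comp]
    exact (SymPow.theta_injective _ hsurjC).comp
      (SymPow.map_injective_of_leftInverse i₀ p₀ hpi₀)
  intro z z' hzz'
  apply hinj
  rw [← hcomp, LinearMap.comp_apply, LinearMap.comp_apply, hzz']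

end inj

end Groth.Agent.H5.GrSym
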