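import Mathlib
import Groth.Agent.Lib.Helper5.GrSym.E

set_option autoImplicit false

namespace Groth.Agent.H5.GrSym

open MvPolynomial TensorProduct

universe u

section proj

variable {B₀ C : Type*} [CommRing B₀] [CommRing C] [Algebra B₀ C]
  {M : Type*} [AddCommGroup M] [Module B₀ M] [Module C M] [IsScalarTower B₀ C M]

/-- Projectivity passes to a quotient ring acting on the module. -/
theorem projective_of_surjective (hsurj : Function.Surjective (algebraMap B₀ C))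
    [Module.Projective B₀ M] : Module.Projective C M := by
  obtain ⟨s, hs⟩ := Module.projective_def'.mp (inferInstance : Module.Projective B₀ M)
  let m : (M →₀ B₀) →ₗ[B₀] (M →₀ C) := Finsupp.mapRange.linearMap (Algebra.linearMap B₀ C)
  let s' : M →ₗ[B₀] (M →₀ C) := m ∘ₗ s
  let s'' : M →ₗ[C] (M →₀ C) := s'.extendScalarsOfSurjective hsurj
  rw [Module.projective_def']
  refine ⟨s'', ?_⟩
  ext x
  have h1 : ∀ f : M →₀ B₀, Finsupp.linearCombination C id (m f) =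
      Finsupp.linearCombination B₀ id f := by
    intro f
    induction f using Finsupp.induction_linear with
    | zero => simp
    | add f g hf hg => rw [map_add, map_add, map_add, hf, hg]
    | single a b =>
      simp only [m, Finsupp.mapRange.linearMap_apply, Finsupp.mapRange_single,
        Algebra.linearMap_apply, Finsupp.linearCombination_single, id_eq, algebraMap_smul]
  change Finsupp.linearCombination C id (m (s x)) = x
  rw [h1]
  exact LinearMap.congr_fun hs x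

end proj

section main

variable {R B₀ S : Type u} [CommRing R] [CommRing B₀] [CommRing S] [Algebra R S] [Algebra B₀ S]
  (𝔍 : Ideal S)

theorem exists_bijective (hAFS : CAlgX.IsAdicFormallySmooth R S 𝔍)
    [Module.Projective (S ⧸ 𝔍) 𝔍.Cotangent]
    (hψ : ∀ (i : 𝔍.Cotangent →ₗ[S ⧸ 𝔍] (𝔍.Cotangent →₀ (S ⧸ 𝔍))),
      ∃ ψ₁ : S →ₐ[R] T 𝔍.Cotangent (S ⧸ 𝔍) 1,
        (∀ s : S, ∃ r ∈ idealOfVars 𝔍.Cotangent (S ⧸ 𝔍),
          ψ₁ s = Ideal.Quotient.mk _ (C (Ideal.Quotient.mk 𝔍 s) + r)) ∧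
        (∀ x : 𝔍, ψ₁ x = Ideal.Quotient.mk _ (ell (i (𝔍.toCotangent x)))))
    (hsurj : ∀ s : S, ∃ b : B₀, s - algebraMap B₀ S b ∈ 𝔍)
    {ι : Type u} [Fintype ι] [Nonempty ι]
    (N N' : Submodule B₀ S) (hN : ∀ x, x ∈ N ↔ x ∈ 𝔍 ^ Fintype.card ι)
    (hN' : ∀ x, x ∈ N' ↔ x ∈ 𝔍 ^ (Fintype.card ι + 1)) :
    ∃ φ : Sym[B₀] ι 𝔍.Cotangent →ₗ[B₀] (↥N ⧸ N'.comap N.subtype),
      (∀ x : ι → 𝔍, φ (SymmetricPower.tprod B₀ fun i => 𝔍.toCotangent (x i)) =
        cls 𝔍 N N' hN (∏ i, (x i : S)) (prod_mem 𝔍 x)) ∧ Function.Bijective φ := by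
  obtain ⟨φ, hφ⟩ := exists_canonical 𝔍 N N' hN hN'
  refine ⟨φ, hφ, ?_, surjective_of_pinned 𝔍 N N' hN hN' hsurj φ hφ⟩
  obtain ⟨i, hi⟩ := Module.projective_def'.mp
    (inferInstance : Module.Projective (S ⧸ 𝔍) 𝔍.Cotangent)
  obtain ⟨ψ₁, h1, h2⟩ := hψ i
  obtain ⟨Λ, hΛ1, hΛ2, hΛ3⟩ := core 𝔍 hAFS i ψ₁ h1 h2 (Fintype.card ι)
  have hsurjC : Function.Surjective (algebraMap B₀ (S ⧸ 𝔍)) := by
    intro c
    obtain ⟨s, rfl⟩ := Ideal.Quotient.mk_surjective c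
    obtain ⟨b, hb⟩ := hsurj s
    refine ⟨b, ?_⟩
    rw [IsScalarTower.algebraMap_apply B₀ S (S ⧸ 𝔍), Ideal.Quotient.algebraMap_eq]
    exact (Ideal.Quotient.eq.mpr hb).symm
  exact injective_of_core 𝔍 N N' hN hN' hsurjC i (Finsupp.linearCombination (S ⧸ 𝔍) id) hi Λ hΛ1
    hΛ2 (fun x => hΛ3 ι x rfl) φ hφ

end main

end Groth.Agent.H5.GrSym
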