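import Mathlib
import Groth.Agent.Lib.Helper5.GrSym.F

set_option autoImplicit false

namespace Groth.Agent.H5.GrSym

open MvPolynomial TensorProduct

universe u

section diag

variable (A B : Type u) [CommRing A] [CommRing B] [Algebra A B]

local notation "II" => KaehlerDifferential.ideal A B

/-- class of `1 ⊗ y`. -/
noncomputable def cR (y : B) : (B ⊗[A] B) ⧸ II := Ideal.Quotient.mk II ((1 : B) ⊗ₜ[A] y)

lemma cR_eq (y : B) : cR A B y = Ideal.Quotient.mk II (y ⊗ₜ[A] (1 : B)) := by
  rw [cR, Ideal.Quotient.eq]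
  exact KaehlerDifferential.one_smul_sub_smul_one_mem_ideal A y

lemma cR_eq_algebraMap (y : B) : cR A B y = algebraMap B ((B ⊗[A] B) ⧸ II) y := by
  rw [cR_eq]
  rfl

lemma cR_mul (y y' : B) : cR A B (y * y') = cR A B y * cR A B y' := by
  rw [cR, cR, cR, ← map_mul, Algebra.TensorProduct.tmul_mul_tmul, one_mul]

lemma cR_add (y y' : B) : cR A B (y + y') = cR A B y + cR A B y' := by
  rw [cR, cR, cR, ← map_add, TensorProduct.tmul_add]

lemma cR_one : cR A B 1 = 1 := by
  rw [cR, ← Algebra.TensorProduct.one_def, map_one]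

lemma cR_zero : cR A B 0 = 0 := by
  rw [cR, TensorProduct.tmul_zero, map_zero]

/-- `1 ⊗ y - y ⊗ 1` as an element of the diagonal ideal. -/
noncomputable def δ (y : B) : II :=
  ⟨(1 : B) ⊗ₜ[A] y - y ⊗ₜ[A] (1 : B), KaehlerDifferential.one_smul_sub_smul_one_mem_ideal A y⟩

/-- `dy` as an element of the cotangent space of the diagonal ideal. -/
noncomputable def dd (y : B) : (II).Cotangent := (II).toCotangent (δ A B y)

lemma dd_add (y y' : B) : dd A B (y + y') = dd A B y + dd A B y' := by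
  rw [dd, dd, dd, ← map_add]
  congr 1
  apply Subtype.ext
  simp only [δ, Submodule.coe_add, TensorProduct.tmul_add, TensorProduct.add_tmul]
  abel

lemma dd_one : dd A B 1 = 0 := by
  rw [dd, Ideal.toCotangent_eq_zero]
  simp [δ]

lemma dd_zero : dd A B 0 = 0 := by
  rw [dd, Ideal.toCotangent_eq_zero]
  simp [δ]

lemma dd_algebraMap (a : A) : dd A B (algebraMap A B a) = 0 := by
  rw [dd, Ideal.toCotangent_eq_zero]
  have : (δ A B (algebraMap A B a) : B ⊗[A] B) = 0 := by
    simp only [δ, Algebra.algebraMap_eq_smul_one, TensorProduct.tmul_smul, TensorProduct.smul_tmul',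
      sub_self]
  rw [this]
  exact Ideal.zero_mem _

lemma mk_smul_toCotangent (s : B ⊗[A] B) (z : II) :
    (Ideal.Quotient.mk II s) • (II).toCotangent z = (II).toCotangent (s • z) := by
  rw [map_smul]
  rfl

lemma dd_mul (y y' : B) : dd A B (y * y') = cR A B y • dd A B y' + cR A B y' • dd A B y := by
  rw [cR_eq A B y', cR, dd, dd, dd, mk_smul_toCotangent, mk_smul_toCotangent, ← map_add]
  congr 1
  apply Subtype.ext
  simp only [δ, Submodule.coe_add, Submodule.coe_smul, smul_eq_mul, mul_sub,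
    Algebra.TensorProduct.tmul_mul_tmul, one_mul, mul_one]
  rw [mul_comm y' y]
  abel

variable {κ : Type u}
  (i : (KaehlerDifferential.ideal A B).Cotangent →ₗ[(B ⊗[A] B) ⧸ KaehlerDifferential.ideal A B]
    (κ →₀ ((B ⊗[A] B) ⧸ KaehlerDifferential.ideal A B)))

local notation "mkT" => Ideal.Quotient.mk (idealOfVars κ ((B ⊗[A] B) ⧸ II) ^ (1 + 1))

/-- The `A`-algebra map `B → C[X]/(X)²`, `y ↦ y + ℓ(i(dy))`. -/
noncomputable def gHom : B →ₐ[A] T κ ((B ⊗[A] B) ⧸ II) 1 where
  toFun y := mkT (C (cR A B y) + ell (i (dd A B y)))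
  map_one' := by
    rw [cR_one, dd_one, map_zero, map_zero, add_zero, map_one, map_one]
  map_mul' y y' := by
    rw [← map_mul, Ideal.Quotient.eq, cR_mul, dd_mul, map_add, map_smul, map_smul, map_add,
      map_smul, map_smul, MvPolynomial.smul_eq_C_mul, MvPolynomial.smul_eq_C_mul, map_mul]
    have : C (cR A B y) * C (cR A B y') +
        (C (cR A B y) * ell (i (dd A B y')) + C (cR A B y') * ell (i (dd A B y))) -
        (C (cR A B y) + ell (i (dd A B y))) * (C (cR A B y') + ell (i (dd A B y'))) =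
        - (ell (i (dd A B y)) * ell (i (dd A B y'))) := by ring
    rw [this, pow_succ, pow_one]
    exact Ideal.neg_mem_iff _ |>.mpr (Ideal.mul_mem_mul (ell_mem _) (ell_mem _))
  map_zero' := by
    rw [cR_zero, dd_zero, map_zero, map_zero, map_zero, add_zero, map_zero]
  map_add' y y' := by
    rw [cR_add, dd_add]
    simp only [map_add]
    ring
  commutes' a := by
    rw [dd_algebraMap, map_zero, map_zero, add_zero, cR_eq_algebraMap]
    rfl

lemma gHom_apply (y : B) :
    gHom A B i y = mkT (C (cR A B y) + ell (i (dd A B y))) := rfl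

/-- The map `ψ₁ : B ⊗ B → C[X]/(X)²`. -/
noncomputable def psi1 : B ⊗[A] B →ₐ[B] T κ ((B ⊗[A] B) ⧸ II) 1 :=
  Algebra.TensorProduct.lift (Algebra.ofId B _) (gHom A B i) (fun _ _ => Commute.all _ _)

lemma psi1_tmul (x y : B) :
    psi1 A B i (x ⊗ₜ[A] y) =
      mkT (C (cR A B x) * (C (cR A B y) + ell (i (dd A B y)))) := by
  have hf : (Algebra.ofId B (T κ ((B ⊗[A] B) ⧸ II) 1)) x = mkT (C (cR A B x)) := by
    rw [cR_eq_algebraMap]
    rfl
  rw [psi1, Algebra.TensorProduct.lift_tmul, gHom_apply, map_mul, hf]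

lemma psi1_h1 (s : B ⊗[A] B) : ∃ r ∈ idealOfVars κ ((B ⊗[A] B) ⧸ II),
    psi1 A B i s = mkT (C (Ideal.Quotient.mk II s) + r) := by
  induction s using TensorProduct.induction_on with
  | zero => exact ⟨0, Ideal.zero_mem _, by simp⟩
  | tmul x y =>
    refine ⟨C (cR A B x) * ell (i (dd A B y)), Ideal.mul_mem_left _ _ (ell_mem _), ?_⟩
    rw [psi1_tmul, mul_add, ← map_mul, ← cR_mul]
    congr 3
    rw [cR, Ideal.Quotient.eq]
    have : (1 : B) ⊗ₜ[A] (x * y) - x ⊗ₜ[A] y = (1 ⊗ₜ[A] y) * (1 ⊗ₜ[A] x - x ⊗ₜ[A] 1) := by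
      simp only [mul_sub, Algebra.TensorProduct.tmul_mul_tmul, one_mul, mul_one]
      rw [mul_comm y x]
    rw [this]
    exact Ideal.mul_mem_left _ _ (KaehlerDifferential.one_smul_sub_smul_one_mem_ideal A x)
  | add s t hs ht =>
    obtain ⟨r, hr, hs⟩ := hs
    obtain ⟨r', hr', ht⟩ := ht
    refine ⟨r + r', Ideal.add_mem _ hr hr', ?_⟩
    rw [map_add, hs, ht, ← map_add, map_add (Ideal.Quotient.mk II), map_add C]
    congr 1
    ring

lemma psi1_h2 (z : B ⊗[A] B) (hz : z ∈ II) :
    psi1 A B i z = mkT (ell (i ((II).toCotangent ⟨z, hz⟩))) := by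
  have hz' : z ∈ Ideal.span (Set.range fun s : B => (1 : B) ⊗ₜ[A] s - s ⊗ₜ[A] (1 : B)) := by
    rw [KaehlerDifferential.span_range_eq_ideal]; exact hz
  have key : ∀ (z : B ⊗[A] B)
      (hz' : z ∈ Ideal.span (Set.range fun s : B => (1 : B) ⊗ₜ[A] s - s ⊗ₜ[A] (1 : B))),
      psi1 A B i z = mkT (ell (i ((II).toCotangent
        ⟨z, (KaehlerDifferential.span_range_eq_ideal A B) ▸ hz'⟩))) := by
    intro z hz'
    induction hz' using Submodule.span_induction with
    | mem z hz'' =>
      obtain ⟨y, rfl⟩ := hz''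
      have e : psi1 A B i ((1 : B) ⊗ₜ[A] y - y ⊗ₜ[A] (1 : B)) = mkT (ell (i (dd A B y))) := by
        rw [map_sub, psi1_tmul, psi1_tmul]
        simp only [cR_one, dd_one, map_zero, map_one, one_mul, add_zero, mul_one]
        rw [← map_sub]
        congr 1
        ring
      exact e
    | zero =>
      rw [map_zero]
      have : (⟨0, (KaehlerDifferential.span_range_eq_ideal A B) ▸ Submodule.zero_mem _⟩ : II) = 0 :=
        rfl
      rw [this, map_zero, map_zero, map_zero, map_zero]
    | add a b ha hb iha ihb =>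
      rw [map_add, iha, ihb, ← map_add, ← map_add, ← map_add, ← map_add]
      rfl
    | smul s a ha iha =>
      have ha' : a ∈ II := (KaehlerDifferential.span_range_eq_ideal A B) ▸ ha
      obtain ⟨r, hr, hs⟩ := psi1_h1 A B i s
      have e1 : psi1 A B i (s • a) = psi1 A B i s * psi1 A B i a := by
        rw [smul_eq_mul, map_mul]
      rw [e1, iha, hs, ← map_mul, Ideal.Quotient.eq]
      have h1 : (II).toCotangent ⟨s • a, (KaehlerDifferential.span_range_eq_ideal A B) ▸
          Submodule.smul_mem _ s ha⟩ = (Ideal.Quotient.mk II s) • (II).toCotangent ⟨a, ha'⟩ := by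
        rw [mk_smul_toCotangent]
        rfl
      rw [h1, map_smul, map_smul, MvPolynomial.smul_eq_C_mul]
      have h2 : (C ((Ideal.Quotient.mk II) s) + r) * ell (i ((II).toCotangent ⟨a, ha'⟩)) -
          C ((Ideal.Quotient.mk II) s) * ell (i ((II).toCotangent ⟨a, ha'⟩)) =
          r * ell (i ((II).toCotangent ⟨a, ha'⟩)) := by ring
      rw [h2, pow_succ, pow_one]
      exact Ideal.mul_mem_mul hr (ell_mem _)
  exact key z hz'

end diag

end Groth.Agent.H5.GrSym
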