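import Mathlib
import Groth.Prelude.Def_PP16
import Groth.Agent.Lib.Helper5.GrSym.G

set_option autoImplicit false

namespace Groth.Agent.H5.GrSym

open MvPolynomial TensorProduct

universe u

section adic

variable {R S : Type u} [CommRing R] [CommRing S] [Algebra R S]

theorem isAdic_of_formallySmooth [Algebra.FormallySmooth R S] (𝔫 : Ideal S) :
    CAlgX.IsAdicFormallySmooth R S 𝔫 := by
  intro A _ _ J hJ ψ _
  exact Algebra.FormallySmooth.comp_surjective R S J hJ ψ

end adic

section diag

variable (A B : Type u) [CommRing A] [CommRing B] [Algebra A B]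

local notation "II" => KaehlerDifferential.ideal A B

/-- `I^n` as a `B`-submodule (first factor). -/
noncomputable abbrev Nn (n : ℕ) : Submodule B (B ⊗[A] B) := (II ^ n).restrictScalars B

lemma hNn (n : ℕ) : ∀ x, x ∈ Nn A B n ↔ x ∈ II ^ n := fun _ => Iff.rfl

lemma sub_algebraMap_lmul_mem (s : B ⊗[A] B) :
    s - algebraMap B (B ⊗[A] B) (Algebra.TensorProduct.lmul' A s) ∈ II := by
  change Algebra.TensorProduct.lmul' A _ = 0
  rw [map_sub, Algebra.TensorProduct.algebraMap_apply, Algebra.TensorProduct.lmul'_apply_tmul]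
  simp

lemma algebraMap_mem_ideal_iff (b : B) : algebraMap B (B ⊗[A] B) b ∈ II ↔ b = 0 := by
  change Algebra.TensorProduct.lmul' A _ = 0 ↔ _
  rw [Algebra.TensorProduct.algebraMap_apply, Algebra.TensorProduct.lmul'_apply_tmul]
  simp

lemma surjective_algebraMap_quotient :
    Function.Surjective (algebraMap B ((B ⊗[A] B) ⧸ II)) := by
  intro c
  obtain ⟨s, rfl⟩ := Ideal.Quotient.mk_surjective c
  refine ⟨Algebra.TensorProduct.lmul' A s, ?_⟩
  rw [IsScalarTower.algebraMap_apply B (B ⊗[A] B) ((B ⊗[A] B) ⧸ II), Ideal.Quotient.algebraMap_eq]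
  exact (Ideal.Quotient.eq.mpr (sub_algebraMap_lmul_mem A B s)).symm

/-- The pinned canonical map exists and is bijective in the empty case. -/
theorem exists_bijective_of_isEmpty (ι : Type u) [Fintype ι] [IsEmpty ι] :
    ∃ φ : Sym[B] ι (II).Cotangent →ₗ[B]
        (↥(Nn A B (Fintype.card ι)) ⧸
          (Nn A B (Fintype.card ι + 1)).comap (Nn A B (Fintype.card ι)).subtype),
      (∀ x : ι → II, φ (SymmetricPower.tprod B fun i => (II).toCotangent (x i)) =
        cls (II) (Nn A B (Fintype.card ι)) (Nn A B (Fintype.card ι + 1)) (hNn A B _)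
          (∏ i, (x i : B ⊗[A] B)) (prod_mem (II) x)) ∧ Function.Bijective φ := by
  obtain ⟨φ, hφ0⟩ := exists_canonical (B₀ := B) (II) (ι := ι)
    (Nn A B (Fintype.card ι)) (Nn A B (Fintype.card ι + 1)) (hNn A B _) (hNn A B _)
  have hφ : ∀ x : ι → II, φ (SymmetricPower.tprod B fun i => (II).toCotangent (x i)) =
        cls (II) (Nn A B (Fintype.card ι)) (Nn A B (Fintype.card ι + 1)) (hNn A B _)
          (∏ i, (x i : B ⊗[A] B)) (prod_mem (II) x) := hφ0
  have hsurj := surjective_of_pinned (B₀ := B) (II) (ι := ι)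
    (Nn A B (Fintype.card ι)) (Nn A B (Fintype.card ι + 1)) (hNn A B _) (hNn A B _)
    (fun s => ⟨_, sub_algebraMap_lmul_mem A B s⟩) φ hφ
  refine ⟨φ, hφ, ?_, hsurj⟩
  rw [injective_iff_map_eq_zero]
  intro z hz
  -- every element is a multiple of the empty pure tensor
  let x₀ : ι → II := fun i => isEmptyElim i
  have hspan : z ∈ Submodule.span B
      {SymmetricPower.tprod B fun i => (II).toCotangent (x₀ i)} := by
    have : z ∈ Submodule.span B
        (Set.range (SymmetricPower.tprod B (ι := ι) (M := (II).Cotangent))) := by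
      rw [SymmetricPower.span_tprod_eq_top]; trivial
    refine Submodule.span_mono ?_ this
    rintro _ ⟨v, rfl⟩
    rw [Set.mem_singleton_iff]
    congr 1
    funext i
    exact isEmptyElim i
  obtain ⟨b, rfl⟩ := Submodule.mem_span_singleton.mp hspan
  rw [map_smul, hφ x₀, ← cls_smul,
    cls_eq_zero_iff (II) _ _ (hNn A B _) (hNn A B _)] at hz
  have hcard : Fintype.card ι = 0 := Fintype.card_eq_zero
  rw [hcard, zero_add, pow_one, Finset.univ_eq_empty, Finset.prod_empty, Algebra.smul_def,
    mul_one, algebraMap_mem_ideal_iff] at hz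
  rw [hz, zero_smul]

end diag

end Groth.Agent.H5.GrSym
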