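import Mathlib
import Groth.Prelude.Def_PP16
import Groth.Agent.Lib.Helper5.GrSym.H

set_option autoImplicit false

namespace Groth.Agent.H5.GrSym

open MvPolynomial TensorProduct

universe u

section diag

variable (A B : Type u) [CommRing A] [CommRing B] [Algebra A B]

local notation "II" => KaehlerDifferential.ideal A B

/-- A criterion for differential smoothness in terms of the `cls`-pinned canonical maps. -/
theorem isDiffSmooth_of_cls [Module.Projective B (KaehlerDifferential A B)]
    (h : ∀ (ι : Type u) [Fintype ι] [Nonempty ι],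
      ∃ φ : Sym[B] ι (II).Cotangent →ₗ[B]
        (↥(Nn A B (Fintype.card ι)) ⧸
          (Nn A B (Fintype.card ι + 1)).comap (Nn A B (Fintype.card ι)).subtype),
      (∀ x : ι → II, φ (SymmetricPower.tprod B fun i => (II).toCotangent (x i)) =
        cls (II) (Nn A B (Fintype.card ι)) (Nn A B (Fintype.card ι + 1)) (hNn A B _)
          (∏ i, (x i : B ⊗[A] B)) (prod_mem (II) x)) ∧ Function.Bijective φ) :
    PP16.IsDiffSmooth A B := by
  refine ⟨inferInstance, fun ι _ => ?_⟩
  have key : ∃ φ : Sym[B] ι (II).Cotangent →ₗ[B]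
        (↥(Nn A B (Fintype.card ι)) ⧸
          (Nn A B (Fintype.card ι + 1)).comap (Nn A B (Fintype.card ι)).subtype),
      (∀ x : ι → II, φ (SymmetricPower.tprod B fun i => (II).toCotangent (x i)) =
        cls (II) (Nn A B (Fintype.card ι)) (Nn A B (Fintype.card ι + 1)) (hNn A B _)
          (∏ i, (x i : B ⊗[A] B)) (prod_mem (II) x)) ∧ Function.Bijective φ := by
    rcases isEmpty_or_nonempty ι with hι | hι
    · exact exists_bijective_of_isEmpty A B ι
    · exact h ι
  obtain ⟨φ, hφ, hbij⟩ := key
  exact ⟨φ, fun b => hφ (fun i => δ A B (b i)), hbij⟩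

theorem isDiffSmooth_of_formallySmooth [Algebra.FormallySmooth A B] : PP16.IsDiffSmooth A B := by
  apply isDiffSmooth_of_cls
  intro ι _ _
  haveI : Module.Projective B (II).Cotangent :=
    (inferInstance : Module.Projective B (KaehlerDifferential A B))
  haveI : Module.Projective ((B ⊗[A] B) ⧸ II) (II).Cotangent :=
    projective_of_surjective (B₀ := B) (M := (II).Cotangent) (surjective_algebraMap_quotient A B)
  exact exists_bijective (R := B) (B₀ := B) (II) (isAdic_of_formallySmooth _)
    (fun i => ⟨psi1 A B i, psi1_h1 A B i, fun x => psi1_h2 A B i x.1 x.2⟩)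
    (fun s => ⟨_, sub_algebraMap_lmul_mem A B s⟩) _ _ (hNn A B _) (hNn A B _)

end diag

end Groth.Agent.H5.GrSym
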