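import Mathlib
import Groth.Prelude.Def_PP16
import Groth.Agent.Lib.Helper5.SymPow.F
import Groth.Agent.Lib.Helper5.GrSym.A3

set_option autoImplicit false

namespace Groth.Agent.H5.GrSym

open TensorProduct

universe u

section compare

variable {B₀ S : Type u} [CommRing B₀] [CommRing S] [Algebra B₀ S] (𝔍 : Ideal S)
  {ι : Type u} [Fintype ι]
  (N N' : Submodule B₀ S) (hN : ∀ x, x ∈ N ↔ x ∈ 𝔍 ^ Fintype.card ι)
  (hN' : ∀ x, x ∈ N' ↔ x ∈ 𝔍 ^ (Fintype.card ι + 1))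

lemma cls_congr' {n : ℕ} (M M' : Submodule B₀ S) (hM : ∀ x, x ∈ M ↔ x ∈ 𝔍 ^ n)
    {x y : S} (hxy : x = y) (hx : x ∈ 𝔍 ^ n) (hy : y ∈ 𝔍 ^ n) :
    cls 𝔍 M M' hM x hx = cls 𝔍 M M' hM y hy := by
  subst hxy; rfl

/-- The canonical maps over `B₀` and over `S` are computed by a common representative. -/
theorem exists_common
    (φ₀ : Sym[B₀] ι 𝔍.Cotangent →ₗ[B₀] (↥N ⧸ N'.comap N.subtype))
    (hφ₀ : ∀ x : ι → 𝔍, φ₀ (SymmetricPower.tprod B₀ fun i => 𝔍.toCotangent (x i)) =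
        cls 𝔍 N N' hN (∏ i, (x i : S)) (prod_mem 𝔍 x))
    (φ₁ : Sym[S] ι 𝔍.Cotangent →ₗ[S] PP16.grJ S 𝔍 (Fintype.card ι))
    (hφ₁ : ∀ x : ι → 𝔍, φ₁ (SymmetricPower.tprod S fun i => 𝔍.toCotangent (x i)) =
        PP16.zetaJ S 𝔍 x)
    (z : Sym[B₀] ι 𝔍.Cotangent) :
    ∃ (y : S) (hy : y ∈ 𝔍 ^ Fintype.card ι), φ₀ z = cls 𝔍 N N' hN y hy ∧
      φ₁ (SymPow.canAdd (R := B₀) (S := S) z) =
        cls 𝔍 (𝔍 ^ Fintype.card ι) (𝔍 ^ (Fintype.card ι + 1)) (fun _ => Iff.rfl) y hy := by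
  have hz : z ∈ Submodule.span B₀ (Set.range (SymmetricPower.tprod B₀ (ι := ι)
      (M := 𝔍.Cotangent))) := by
    rw [SymmetricPower.span_tprod_eq_top]; trivial
  refine Submodule.span_induction ?_ ?_ ?_ ?_ hz
  · rintro _ ⟨v, rfl⟩
    choose x hx using fun l => 𝔍.toCotangent_surjective (v l)
    have hv : v = fun l => 𝔍.toCotangent (x l) := by
      funext l; exact (hx l).symm
    refine ⟨∏ l, (x l : S), prod_mem 𝔍 x, ?_, ?_⟩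
    · rw [hv, hφ₀]
    · rw [SymPow.canAdd_tprod, hv, hφ₁]
      rfl
  · exact ⟨0, Ideal.zero_mem _, by rw [map_zero]; rfl, by rw [map_zero, map_zero]; rfl⟩
  · rintro a b _ _ ⟨ya, hya, ha0, ha1⟩ ⟨yb, hyb, hb0, hb1⟩
    refine ⟨ya + yb, Ideal.add_mem _ hya hyb, ?_, ?_⟩
    · rw [map_add, ha0, hb0]; rfl
    · rw [map_add, map_add, ha1, hb1]; rfl
  · rintro r a _ ⟨ya, hya, ha0, ha1⟩
    refine ⟨r • ya, by rw [Algebra.smul_def]; exact Ideal.mul_mem_left _ _ hya, ?_, ?_⟩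
    · rw [map_smul, ha0]; rfl
    · rw [SymPow.canAdd_smul, map_smul, ha1, ← cls_smul]
      exact cls_congr' 𝔍 _ _ _ (by
        rw [Algebra.smul_def, Algebra.smul_def]; rfl) _ _

include hN' in
theorem injective_iff [Nonempty ι]
    (φ₀ : Sym[B₀] ι 𝔍.Cotangent →ₗ[B₀] (↥N ⧸ N'.comap N.subtype))
    (hφ₀ : ∀ x : ι → 𝔍, φ₀ (SymmetricPower.tprod B₀ fun i => 𝔍.toCotangent (x i)) =
        cls 𝔍 N N' hN (∏ i, (x i : S)) (prod_mem 𝔍 x))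
    (φ₁ : Sym[S] ι 𝔍.Cotangent →ₗ[S] PP16.grJ S 𝔍 (Fintype.card ι))
    (hφ₁ : ∀ x : ι → 𝔍, φ₁ (SymmetricPower.tprod S fun i => 𝔍.toCotangent (x i)) =
        PP16.zetaJ S 𝔍 x)
    (ρ : S →+* B₀) (hρ' : ∀ r : B₀, ρ (algebraMap B₀ S r) = r)
    (hρ : ∀ (s : S), s - algebraMap B₀ S (ρ s) ∈ 𝔍) :
    Function.Injective φ₀ ↔ Function.Injective φ₁ := by
  have hcan_inj : Function.Injective (SymPow.canAdd (R := B₀) (S := S) (ι := ι)
      (M := 𝔍.Cotangent)) := by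
    apply SymPow.canAdd_injective ρ hρ'
    intro s m
    rw [← sub_eq_zero, ← algebraMap_smul S (ρ s) m, ← sub_smul]
    exact Ideal.Cotangent.smul_eq_zero_of_mem (hρ s) m
  have hcan_surj := SymPow.canAdd_surjective (R := B₀) (S := S) (ι := ι) (M := 𝔍.Cotangent)
  have key : ∀ z, φ₀ z = 0 ↔ φ₁ (SymPow.canAdd (R := B₀) (S := S) z) = 0 := by
    intro z
    obtain ⟨y, hy, h0, h1⟩ := exists_common 𝔍 N N' hN φ₀ hφ₀ φ₁ hφ₁ z
    rw [h0, h1, cls_eq_zero_iff 𝔍 N N' hN hN', cls_eq_zero_iff 𝔍 _ _ _ (fun _ => Iff.rfl)]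
  constructor
  · intro h0
    rw [injective_iff_map_eq_zero] at h0 ⊢
    intro z₁ hz₁
    obtain ⟨z, rfl⟩ := hcan_surj z₁
    rw [h0 z ((key z).mpr hz₁), map_zero]
  · intro h1
    rw [injective_iff_map_eq_zero] at h1 ⊢
    intro z hz
    have := h1 _ ((key z).mp hz)
    exact hcan_inj (by rw [this, map_zero])

end compare

end Groth.Agent.H5.GrSym
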