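import Mathlib
import Groth.Prelude.Def_PP16
import Groth.Agent.Lib.Helper5.GrSym.I
import Groth.Agent.Lib.Helper5.GrSym.J

set_option autoImplicit false

namespace Groth.Agent.H5.GrSym

open TensorProduct

universe u

section projbij

variable {B₀ C : Type*} [CommRing B₀] [CommRing C] [Algebra B₀ C]
  {M : Type*} [AddCommGroup M] [Module B₀ M] [Module C M] [IsScalarTower B₀ C M]

/-- Projectivity descends along a bijective structure map. -/
theorem projective_of_bijective (hbij : Function.Bijective (algebraMap B₀ C))
    [Module.Projective C M] : Module.Projective B₀ M := by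
  let e : B₀ ≃+* C := RingEquiv.ofBijective (algebraMap B₀ C) hbij
  let σ : C →+* B₀ := (e.symm : C →+* B₀)
  let σ' : B₀ →+* C := (e : B₀ →+* C)
  haveI : RingHomInvPair σ σ' := ⟨by ext x; simp [σ, σ'], by ext x; simp [σ, σ']⟩
  haveI : RingHomInvPair σ' σ := ⟨by ext x; simp [σ, σ'], by ext x; simp [σ, σ']⟩
  let e₂ : M ≃ₛₗ[σ] M :=
    { toFun := id
      map_add' := fun _ _ => rfl
      map_smul' := fun c m => by
        change c • m = e.symm c • m
        rw [← algebraMap_smul C (e.symm c) m]
        congr 1
        exact (e.apply_symm_apply c).symm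
      invFun := id
      left_inv := fun _ => rfl
      right_inv := fun _ => rfl }
  exact Module.Projective.of_equiv e₂

end projbij

section diag

variable (A B : Type u) [CommRing A] [CommRing B] [Algebra A B]

local notation "II" => KaehlerDifferential.ideal A B

lemma bijective_algebraMap_quotient :
    Function.Bijective (algebraMap B ((B ⊗[A] B) ⧸ II)) := by
  refine ⟨?_, surjective_algebraMap_quotient A B⟩
  rw [injective_iff_map_eq_zero]
  intro b hb
  rw [IsScalarTower.algebraMap_apply B (B ⊗[A] B) ((B ⊗[A] B) ⧸ II), Ideal.Quotient.algebraMap_eq,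
    Ideal.Quotient.eq_zero_iff_mem] at hb
  exact (algebraMap_mem_ideal_iff A B b).mp hb

theorem projective_iff :
    Module.Projective B (KaehlerDifferential A B) ↔
      Module.Projective ((B ⊗[A] B) ⧸ II) (II).Cotangent := by
  constructor
  · intro h
    haveI : Module.Projective B (II).Cotangent := h
    exact projective_of_surjective (B₀ := B) (M := (II).Cotangent)
      (surjective_algebraMap_quotient A B)
  · intro h
    haveI := h
    exact projective_of_bijective (B₀ := B) (C := (B ⊗[A] B) ⧸ II) (M := (II).Cotangent)
      (bijective_algebraMap_quotient A B)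

end diag

end Groth.Agent.H5.GrSym
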