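import Mathlib
import Groth.Prelude.Def_PP16
import Groth.Agent.Lib.Helper5.GrSym.K

set_option autoImplicit false

namespace Groth.Agent.H5.GrSym

open TensorProduct

universe u

section diag

variable (A B : Type u) [CommRing A] [CommRing B] [Algebra A B]

local notation "II" => KaehlerDifferential.ideal A B

/-- The `cls`-pinned bijectivity condition over `B` (first factor). -/
def ClsBijective : Prop :=
  ∀ (ι : Type u) [Fintype ι] [Nonempty ι],
    ∃ φ : Sym[B] ι (II).Cotangent →ₗ[B]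
        (↥(Nn A B (Fintype.card ι)) ⧸
          (Nn A B (Fintype.card ι + 1)).comap (Nn A B (Fintype.card ι)).subtype),
      (∀ x : ι → II, φ (SymmetricPower.tprod B fun i => (II).toCotangent (x i)) =
        cls (II) (Nn A B (Fintype.card ι)) (Nn A B (Fintype.card ι + 1)) (hNn A B _)
          (∏ i, (x i : B ⊗[A] B)) (prod_mem (II) x)) ∧ Function.Bijective φ

/-- The retraction `B ⊗ B → B`. -/
noncomputable def rho : B ⊗[A] B →+* B := (Algebra.TensorProduct.lmul' A : B ⊗[A] B →ₐ[A] B)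

lemma rho_algebraMap (b : B) : rho A B (algebraMap B (B ⊗[A] B) b) = b := by
  change Algebra.TensorProduct.lmul' A (algebraMap B (B ⊗[A] B) b) = b
  rw [Algebra.TensorProduct.algebraMap_apply, Algebra.TensorProduct.lmul'_apply_tmul]
  simp

lemma sub_rho_mem (s : B ⊗[A] B) : s - algebraMap B (B ⊗[A] B) (rho A B s) ∈ II :=
  sub_algebraMap_lmul_mem A B s

theorem clsBijective_iff : ClsBijective A B ↔ PP16.SymGrBijective (B ⊗[A] B) II := by
  constructor
  · intro h ι _ _
    obtain ⟨φ₀, hφ₀, hbij₀⟩ := h ι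
    obtain ⟨φ₁, hφ₁⟩ := exists_canonical (B₀ := B ⊗[A] B) (ι := ι) II (II ^ Fintype.card ι)
      (II ^ (Fintype.card ι + 1)) (fun _ => Iff.rfl) (fun _ => Iff.rfl)
    have hφ₁' : ∀ x : ι → II, φ₁ (SymmetricPower.tprod (B ⊗[A] B)
        (fun i => (II).toCotangent (x i))) = PP16.zetaJ (B ⊗[A] B) II x := hφ₁
    refine ⟨φ₁, hφ₁', ?_, ?_⟩
    · exact (injective_iff II (Nn A B _) (Nn A B _) (hNn A B _) (hNn A B _) φ₀ hφ₀ φ₁ hφ₁'
        (rho A B) (rho_algebraMap A B) (sub_rho_mem A B)).mp hbij₀.1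
    · exact surjective_of_pinned II _ _ (fun _ => Iff.rfl) (fun _ => Iff.rfl)
        (fun s => ⟨s, by simp⟩) φ₁ hφ₁
  · intro h ι _ _
    obtain ⟨φ₁, hφ₁, hbij₁⟩ := h ι
    obtain ⟨φ₀, hφ₀⟩ := exists_canonical (B₀ := B) (ι := ι) II (Nn A B (Fintype.card ι))
      (Nn A B (Fintype.card ι + 1)) (hNn A B _) (hNn A B _)
    have hφ₀' : ∀ x : ι → II, φ₀ (SymmetricPower.tprod B fun i => (II).toCotangent (x i)) =
        cls (II) (Nn A B (Fintype.card ι)) (Nn A B (Fintype.card ι + 1)) (hNn A B _)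
          (∏ i, (x i : B ⊗[A] B)) (prod_mem (II) x) := hφ₀
    refine ⟨φ₀, hφ₀', ?_, ?_⟩
    · exact (injective_iff II (Nn A B _) (Nn A B _) (hNn A B _) (hNn A B _) φ₀ hφ₀' φ₁ hφ₁
        (rho A B) (rho_algebraMap A B) (sub_rho_mem A B)).mpr hbij₁.1
    · exact surjective_of_pinned II _ _ (hNn A B _) (hNn A B _)
        (fun s => ⟨_, sub_rho_mem A B s⟩) φ₀ hφ₀'

/-- Differential smoothness gives the `cls`-pinned condition. -/
theorem clsBijective_of_isDiffSmooth (h : PP16.IsDiffSmooth A B) : ClsBijective A B := by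
  intro ι _ _
  obtain ⟨φ, hφ, hbij⟩ := h.2 ι
  obtain ⟨φc, hφc⟩ := exists_canonical (B₀ := B) (ι := ι) II (Nn A B (Fintype.card ι))
    (Nn A B (Fintype.card ι + 1)) (hNn A B _) (hNn A B _)
  have heq : φ = φc := by
    apply LinearMap.ext_on (SymPow.span_tprod_comp (ι := ι) (fun b => KaehlerDifferential.D A B b)
      (KaehlerDifferential.span_range_derivation A B))
    rintro _ ⟨b, rfl⟩
    rw [hφ b]
    exact (hφc (fun i => δ A B (b i))).symm
  refine ⟨φ, ?_, hbij⟩
  rw [heq]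
  exact hφc

theorem isDiffSmooth_iff :
    PP16.IsDiffSmooth A B ↔
      Module.Projective ((B ⊗[A] B) ⧸ II) (II).Cotangent ∧
        PP16.SymGrBijective (B ⊗[A] B) II := by
  constructor
  · intro h
    exact ⟨(projective_iff A B).mp h.1, (clsBijective_iff A B).mp (clsBijective_of_isDiffSmooth A B h)⟩
  · rintro ⟨h1, h2⟩
    haveI := (projective_iff A B).mpr h1
    exact isDiffSmooth_of_cls A B ((clsBijective_iff A B).mpr h2)

end diag

end Groth.Agent.H5.GrSym
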